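import Cfsg.Agent.Fusion91.Mathieu.Check
import Cfsg.Agent.Fusion91.TwoLocal
import Cfsg.Agent.Lib.Coprime.Action
import Cfsg.Agent.Lib.PGroup.Basic

set_option autoImplicit false

/-! Soundness of the certificates. -/

namespace Cfsg.Agent.Fusion91.Mathieu

open Cfsg Cfsg.Agent
open scoped Pointwise

/-- `σ` acts by the encoded table `a`. -/
def TabN (σ : Equiv.Perm GolayPt) (a : ℕ) : Prop := ∀ i < 24, Golay.idx (σ (Golay.pt i)) = dig a i

theorem tabN_of_tab {σ : Equiv.Perm GolayPt} {a : ℕ} (h : Golay.Tab σ (dec a)) : TabN σ a :=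
  fun i hi => (h i hi).trans (Golay.getD_map_range _ hi)

theorem TabN.lt {σ : Equiv.Perm GolayPt} {a i : ℕ} (h : TabN σ a) (hi : i < 24) : dig a i < 24 :=
  h i hi ▸ Golay.idx_lt _

theorem TabN.apply {σ : Equiv.Perm GolayPt} {a : ℕ} (h : TabN σ a) (p : GolayPt) :
    σ p = Golay.pt (dig a (Golay.idx p)) := by
  rw [← h _ (Golay.idx_lt p), Golay.pt_idx, Golay.pt_idx]

theorem TabN.ext {σ τ : Equiv.Perm GolayPt} {a b : ℕ} (hσ : TabN σ a) (hτ : TabN τ b)
    (h : ∀ i < 24, dig a i = dig b i) : σ = τ :=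
  Equiv.ext fun p => by rw [hσ.apply, hτ.apply, h _ (Golay.idx_lt p)]

theorem TabN.mul_apply {σ τ : Equiv.Perm GolayPt} {a b i : ℕ} (hσ : TabN σ a) (hτ : TabN τ b)
    (hi : i < 24) : Golay.idx ((σ * τ) (Golay.pt i)) = dig a (dig b i) := by
  rw [Equiv.Perm.mul_apply, ← hσ _ (hτ.lt hi), ← hτ i hi, Golay.pt_idx]

theorem TabN.of_isComp {σ τ : Equiv.Perm GolayPt} {a b c : ℕ} (hσ : TabN σ a) (hτ : TabN τ b)
    (h : isComp a b c = true) : TabN (σ * τ) c := fun i hi => by
  simp only [isComp, List.all_eq_true, List.mem_range, beq_iff_eq] at h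
  rw [hσ.mul_apply hτ hi, h i hi]

theorem eq_of_dig : ∀ (k a b : ℕ), a < 32 ^ k → b < 32 ^ k → (∀ i < k, dig a i = dig b i) → a = b
  | 0, a, b, ha, hb, _ => by rw [pow_zero] at ha hb; omega
  | k + 1, a, b, ha, hb, h => by
    have h0 : a % 32 = b % 32 := by simpa [dig] using h 0 (Nat.succ_pos k)
    have h1 : a / 32 = b / 32 := by
      apply eq_of_dig k
      · rw [Nat.div_lt_iff_lt_mul (by norm_num)]; rwa [← pow_succ]
      · rw [Nat.div_lt_iff_lt_mul (by norm_num)]; rwa [← pow_succ]
      · intro i hi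
        have := h (i + 1) (Nat.succ_lt_succ hi)
        simpa [dig, pow_succ', Nat.div_div_eq_div_mul] using this
    omega

variable (H : Subgroup (Equiv.Perm GolayPt)) (okTab : ℕ → Bool) (C : Cert)

/-- Everything the certificate gives. -/
structure Sylow2Data (S : Subgroup ↥H) : Prop where
  card : Nat.card S = C.n
  noClosed : NoClosed S
  oddNorm : OddNormCentral S

theorem sum_range_map (f : ℕ → ℕ) (n : ℕ) :
    ((List.range n).map f).sum = ∑ i : Fin n, f i := by
  induction n with
  | zero => simp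
  | succ n ih => rw [List.range_succ, List.map_append, List.sum_append, Fin.sum_univ_castSucc, ih]; simp

theorem exists_sylow2Data (hok : ∀ a, okTab a = true → ∃ σ : ↥H, TabN (σ : Equiv.Perm GolayPt) a)
    (hc : check okTab C = true) : ∃ S : Subgroup ↥H, Sylow2Data H C S := by
  classical
  have : Fact (Nat.Prime 2) := ⟨Nat.prime_two⟩
  simp only [check, Bool.and_eq_true] at hc
  obtain ⟨⟨⟨⟨hG, hZ⟩, hSt⟩, hL⟩, hI⟩ := hc
  simp only [checkGroup, Bool.and_eq_true, decide_eq_true_eq, List.all_eq_true, List.mem_range,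
    beq_iff_eq, Bool.or_eq_true] at hG
  obtain ⟨⟨⟨⟨⟨⟨⟨hn, hk⟩, hne2⟩, he0⟩, hgen⟩, hmul⟩, hpar⟩, hord⟩ := hG
  choose gg hgg using fun j : Fin C.k => hok _ (hgen j j.2).2
  set S : Subgroup ↥H := Subgroup.closure (Set.range gg) with hS
  -- the elements
  have helem : ∀ m, m < C.n → ∃ σ : ↥H, σ ∈ S ∧ TabN (σ : Equiv.Perm GolayPt) (C.e m) := by
    intro m
    induction m using Nat.strong_induction_on with
    | _ m ih =>
    intro hm
    rcases hpar m hm with h0 | h0
    · subst h0
      refine ⟨1, one_mem _, fun i hi => ?_⟩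
      rw [OneMemClass.coe_one, Equiv.Perm.one_apply, Golay.idx_pt hi, he0 i hi]
    · obtain ⟨⟨hp, hj⟩, he⟩ := h0
      obtain ⟨σ, hσ, hσt⟩ := ih _ hp (hp.trans hm)
      refine ⟨σ * gg ⟨_, hj⟩, mul_mem hσ (Subgroup.subset_closure ⟨_, rfl⟩), ?_⟩
      have := hσt.of_isComp (hgg ⟨_, hj⟩) ((hmul _ (hp.trans hm)).2 _ hj).2
      rwa [he] at this
  choose el helS helT using fun m : Fin C.n => helem m m.2
  have hone : el ⟨0, hn⟩ = 1 := Subtype.ext (TabN.ext (helT _) (fun i hi => by
    rw [OneMemClass.coe_one, Equiv.Perm.one_apply, Golay.idx_pt hi, he0 i hi] : TabN ((1 : ↥H) : Equiv.Perm GolayPt) (C.e 0)) fun _ _ => rfl)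
  have hrmul : ∀ (m : Fin C.n) (j : Fin C.k),
      el ⟨C.mul m j, ((hmul m m.2).2 j j.2).1⟩ = el m * gg j := fun m j =>
    Subtype.ext (TabN.ext (helT _) ((helT m).of_isComp (hgg j) ((hmul m m.2).2 j j.2).2) fun _ _ => rfl)
  have hgel : ∀ j : Fin C.k, el ⟨C.g j, (hgen j j.2).1⟩ = gg j := fun j =>
    Subtype.ext (TabN.ext (helT _) (hgg j) fun _ _ => rfl)
  have hinj : Function.Injective el := by
    let o : Fin C.n → Fin C.n := fun i => ⟨get2 C.ord i, (hord i i.2).1⟩
    have hstep : ∀ i, (hi : i + 1 < C.n) → C.e (get2 C.ord i) < C.e (get2 C.ord (i + 1)) := by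
      intro i hi
      rcases (hord i (Nat.lt_of_succ_lt hi)).2 with h | h
      · omega
      · exact h
    have hmono : ∀ i j, i < j → j < C.n → C.e (get2 C.ord i) < C.e (get2 C.ord j) := by
      intro i j hij
      induction hij with
      | refl => exact hstep i
      | step _ ih => exact fun hj => (ih (Nat.lt_of_succ_lt hj)).trans (hstep _ hj)
    have hcomp : Function.Injective fun i => C.e (o i) := by
      intro a b hab
      rcases lt_trichotomy (a : ℕ) b with h | h | h
      · exact absurd hab (hmono a b h b.2).ne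
      · exact Fin.ext h
      · exact absurd hab (hmono b a h a.2).ne'
    have hob : Function.Bijective o :=
      Finite.injective_iff_bijective.mp fun a b hab => hcomp (congrArg (fun x : Fin C.n => C.e x) hab)
    intro a b hab
    obtain ⟨a', rfl⟩ := hob.2 a
    obtain ⟨b', rfl⟩ := hob.2 b
    refine congrArg o (hcomp ?_)
    refine eq_of_dig 24 _ _ (hmul _ (o a').2).1 (hmul _ (o b').2).1 fun i hi => ?_
    rw [← helT (o a') i hi, ← helT (o b') i hi, hab]
  have hmem : ∀ x ∈ S, ∃ m, el m = x := by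
    intro x hx
    rw [← Subgroup.mem_toSubmonoid, hS, Subgroup.closure_toSubmonoid_of_finite] at hx
    induction hx using Submonoid.closure_induction_right with
    | one => exact ⟨_, hone⟩
    | mul_right a _ b hb ih =>
      obtain ⟨m, rfl⟩ := ih
      obtain ⟨j, rfl⟩ := hb
      exact ⟨_, hrmul m j⟩
  have hbij : Function.Bijective fun m => (⟨el m, helS m⟩ : S) :=
    ⟨fun a b h => hinj (congrArg Subtype.val h), fun ⟨x, hx⟩ => by
      obtain ⟨m, rfl⟩ := hmem x hx; exact ⟨m, rfl⟩⟩
  have hcard : Nat.card S = C.n := by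
    rw [← Nat.card_congr (Equiv.ofBijective _ hbij), Nat.card_fin]
  have hSp : IsPGroup 2 S := IsPGroup.of_card (hcard.trans hne2)
  refine ⟨S, hcard, ?_, ?_⟩
  · -- no closed subgroups
    intro T hTS hT hcl
    refine le_antisymm hTS ?_
    simp only [checkCenter, Bool.and_eq_true, decide_eq_true_eq, List.all_eq_true, List.mem_range,
      Bool.or_eq_true] at hZ
    obtain ⟨⟨hz, hz0⟩, hcen⟩ := hZ
    have hTn : (T.subgroupOf S).Normal := ⟨fun x hx s =>
      Subgroup.mem_subgroupOf.mpr (hcl _ (Subgroup.mem_subgroupOf.mp hx) (s : ↥H) (s * x * s⁻¹ : S).2)⟩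
    have hTne : T.subgroupOf S ≠ ⊥ := by
      intro h
      rw [Subgroup.subgroupOf_eq_bot, disjoint_iff, inf_eq_left.mpr hTS] at h
      exact hT h
    have hzT : el ⟨C.z, hz⟩ ∈ T := by
      obtain ⟨c, hc, hc1⟩ := Subgroup.ne_bot_iff_exists_ne_one.mp (PGroup.inf_center_ne_bot hSp hTne)
        |> fun ⟨c, hc⟩ => (⟨(c : S), c.2, fun h => hc (Subtype.ext h)⟩ :
          ∃ c : S, c ∈ T.subgroupOf S ⊓ Subgroup.center S ∧ c ≠ 1)
      obtain ⟨m, hm⟩ := hmem _ c.2
      have hmz : m = ⟨C.z, hz⟩ := by
        rcases hcen m m.2 with (h | h) | h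
        · exact absurd (Subtype.ext (by rw [← hm, show m = ⟨0, hn⟩ from Fin.ext h, hone]; rfl)) hc1
        · exact Fin.ext h
        · exfalso
          obtain ⟨hj, hnc⟩ := h
          have hcomm := Subgroup.mem_center_iff.mp hc.2 ⟨gg ⟨_, hj⟩, Subgroup.subset_closure ⟨_, rfl⟩⟩
          have hv : gg ⟨_, hj⟩ * el m = el m * gg ⟨_, hj⟩ := by
            rw [hm]; exact congrArg Subtype.val hcomm
          simp only [noComm, Bool.not_eq_eq_eq_not, Bool.not_true, List.all_eq_false,
            List.mem_range, Bool.not_eq_true, beq_eq_false_iff_ne] at hnc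
          obtain ⟨i, hi, hne⟩ := hnc
          apply hne
          have e1 := (helT m).mul_apply (helT ⟨_, (hgen _ hj).1⟩) hi
          have e2 := (helT ⟨_, (hgen _ hj).1⟩).mul_apply (helT m) hi
          rw [hgel ⟨_, hj⟩] at e1 e2
          rw [← e1, ← e2]
          exact congrArg (fun x : ↥H => Golay.idx ((x : Equiv.Perm GolayPt) (Golay.pt i))) hv.symm
      rw [← hmz, hm]
      exact hc.1
    have key : ∀ (l : List (ℕ × ℕ × ℕ × ℕ)) (R : List ℕ),
        (∀ r ∈ R, ∃ h : r < C.n, el ⟨r, h⟩ ∈ T) → runSteps okTab C l R = true → S ≤ T := by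
      intro l
      induction l with
      | nil =>
        intro R hR h
        simp only [runSteps, List.all_eq_true, List.mem_range, List.contains_iff_mem] at h
        rw [hS, Subgroup.closure_le]
        rintro _ ⟨j, rfl⟩
        obtain ⟨h', hh⟩ := hR _ (h j j.2)
        rw [← hgel j]
        exact hh
      | cons a t ih =>
        obtain ⟨g, w, u, r⟩ := a
        intro R hR h
        simp only [runSteps, Bool.and_eq_true, decide_eq_true_eq, List.contains_iff_mem] at h
        obtain ⟨⟨⟨hw, hr⟩, hcond⟩, hrest⟩ := h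
        obtain ⟨hwn, hwT⟩ := hR w hw
        refine ih _ ?_ hrest
        intro r' hr'
        rcases List.mem_cons.mp hr' with rfl | hr'
        swap
        · exact hR r' hr'
        refine ⟨hr, ?_⟩
        split_ifs at hcond with hg
        · simp only [Bool.and_eq_true, List.contains_iff_mem] at hcond
          obtain ⟨hu, hcomp⟩ := hcond
          obtain ⟨hun, huT⟩ := hR u hu
          have : el ⟨r', hr⟩ = el ⟨w, hwn⟩ * el ⟨u, hun⟩ :=
            Subtype.ext (TabN.ext (helT _) ((helT ⟨w, hwn⟩).of_isComp (helT ⟨u, hun⟩) hcomp) fun _ _ => rfl)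
          rw [this]
          exact mul_mem hwT huT
        · simp only [Bool.and_eq_true, List.all_eq_true, List.mem_range, beq_iff_eq] at hcond
          obtain ⟨hok', heq⟩ := hcond
          obtain ⟨σ, hσ⟩ := hok g hok'
          have hcj : σ * el ⟨w, hwn⟩ * σ⁻¹ = el ⟨r', hr⟩ := by
            rw [mul_inv_eq_iff_eq_mul]
            apply Subtype.ext
            refine Equiv.ext fun p => Golay.idx_injective ?_
            rw [← Golay.pt_idx p]
            show Golay.idx (((σ : Equiv.Perm GolayPt) * (el ⟨w, hwn⟩ : Equiv.Perm GolayPt)) _) =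
              Golay.idx (((el ⟨r', hr⟩ : Equiv.Perm GolayPt) * (σ : Equiv.Perm GolayPt)) _)
            rw [hσ.mul_apply (helT _) (Golay.idx_lt p), (helT _).mul_apply hσ (Golay.idx_lt p),
              heq _ (Golay.idx_lt p)]
          rw [← hcj]
          refine hcl _ hwT σ ?_
          rw [hcj]
          exact helS _
    exact key C.steps [C.z] (fun r hr => by
      obtain rfl := List.mem_singleton.mp hr; exact ⟨hz, hzT⟩) hSt
  · -- odd elements normalizing centralize
    intro g hg hodd x hx
    simp only [checkLabels, Bool.and_eq_true, decide_eq_true_eq, List.all_eq_true, List.mem_range,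
      beq_iff_eq] at hL
    obtain ⟨⟨hl0, hlab⟩, hks⟩ := hL
    let L : Fin C.n → ℕ := fun m => C.l m
    have hadd : ∀ (m' m m'' : Fin C.n), el m'' = el m * el m' → L m'' = L m ^^^ L m' := by
      rintro ⟨m', hm'⟩
      induction m' using Nat.strong_induction_on with
      | _ m' ih =>
      intro m m'' he
      rcases hpar m' hm' with h0 | h0
      · subst h0
        rw [hone, mul_one] at he
        rw [hinj he]
        show L m = L m ^^^ C.l 0
        rw [hl0, Nat.xor_zero]
      · obtain ⟨⟨hp, hj⟩, hpe⟩ := h0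
        obtain ⟨q, hq⟩ := hmem _ (mul_mem (helS m) (helS ⟨_, hp.trans hm'⟩))
        have h1 := ih _ hp (hp.trans hm') m q hq
        have h2 : (⟨m', hm'⟩ : Fin C.n) = ⟨C.mul (get2 C.parp m') (get2 C.parj m'), hpe.symm ▸ hm'⟩ :=
          Fin.ext hpe.symm
        have h3 : m'' = ⟨C.mul q (get2 C.parj m'), ((hmul q q.2).2 _ hj).1⟩ := by
          apply hinj
          rw [he, h2, hrmul ⟨_, hp.trans hm'⟩ ⟨_, hj⟩, hrmul q ⟨_, hj⟩, hq, mul_assoc]
        rw [h3, h2]
        show C.l (C.mul q _) = L m ^^^ C.l (C.mul _ _)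
        rw [(hlab q q.2).2 _ hj, (hlab _ (hp.trans hm')).2 _ hj]
        show L q ^^^ _ = _
        rw [h1, Nat.xor_assoc]
    set Q : Subgroup ↥H := Subgroup.closure {y | ∃ a ∈ S, y = a * a} with hQ
    have hQle : Q ≤ (frattini S).map S.subtype := by
      rw [hQ, Subgroup.closure_le]
      rintro _ ⟨a, ha, rfl⟩
      exact ⟨_, PGroup.pow_mem_frattini hSp ⟨a, ha⟩, by simp [pow_two]⟩
    have hQS : Q ≤ S := hQle.trans (Subgroup.map_subtype_le _)
    have hQl : ∀ m, el m ∈ Q → L m = 0 := by
      intro m hm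
      have key : ∀ y ∈ Q, ∀ m, el m = y → L m = 0 := by
        intro y hy
        induction hy using Subgroup.closure_induction with
        | mem y hy =>
          obtain ⟨a, ha, rfl⟩ := hy
          intro m he
          obtain ⟨q, rfl⟩ := hmem a ha
          rw [hadd q q m he, Nat.xor_self]
        | one =>
          intro m he
          rw [hinj (he.trans hone.symm)]
          exact hl0
        | mul a b ha hb iha ihb =>
          intro m he
          obtain ⟨qa, rfl⟩ := hmem a (hQS ha)
          obtain ⟨qb, rfl⟩ := hmem b (hQS hb)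
          rw [hadd qb qa m he, iha qa rfl, ihb qb rfl, Nat.xor_self]
        | inv a ha iha =>
          intro m he
          obtain ⟨qa, rfl⟩ := hmem a (hQS ha)
          have h := hadd qa m ⟨0, hn⟩ (by rw [he, inv_mul_cancel, hone])
          rw [show L ⟨0, hn⟩ = 0 from hl0, iha qa rfl, Nat.xor_zero] at h
          exact h.symm
      exact key _ hm m rfl
    have hlQ : ∀ m : Fin C.n, L m = 0 → el m ∈ Q := by
      have key : ∀ (l : List (ℕ × ℕ × ℕ)) (R : List ℕ),
          (∀ r ∈ R, ∃ h : r < C.n, el ⟨r, h⟩ ∈ Q) → runSquares C l R = true →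
            ∀ m : Fin C.n, L m = 0 → el m ∈ Q := by
        intro l
        induction l with
        | nil =>
          intro R hR h m hm
          simp only [runSquares, List.all_eq_true, List.mem_range, List.contains_iff_mem,
            Bool.or_eq_true, bne_iff_ne] at h
          obtain ⟨h', hh⟩ := hR _ ((h m m.2).resolve_left (fun h => h hm))
          exact hh
        | cons a t ih =>
          obtain ⟨a, s, r⟩ := a
          intro R hR h
          simp only [runSquares, Bool.and_eq_true, decide_eq_true_eq, List.contains_iff_mem,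
            List.all_eq_true, List.mem_range, beq_iff_eq] at h
          obtain ⟨⟨⟨⟨ha, hs⟩, hr⟩, heq⟩, hrest⟩ := h
          obtain ⟨han, haQ⟩ := hR a ha
          refine ih _ ?_ hrest
          intro r' hr'
          rcases List.mem_cons.mp hr' with rfl | hr'
          swap
          · exact hR r' hr'
          refine ⟨hr, ?_⟩
          have : el ⟨r', hr⟩ = el ⟨a, han⟩ * (el ⟨s, hs⟩ * el ⟨s, hs⟩) := by
            apply Subtype.ext
            refine Equiv.ext fun p => Golay.idx_injective ?_
            rw [← Golay.pt_idx p]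
            have hi := Golay.idx_lt p
            show _ = Golay.idx ((el ⟨a, han⟩ : Equiv.Perm GolayPt)
              (((el ⟨s, hs⟩ : Equiv.Perm GolayPt) * (el ⟨s, hs⟩ : Equiv.Perm GolayPt)) _))
            rw [helT ⟨r', hr⟩ _ hi, heq _ hi, ← helT ⟨a, han⟩ _ ((helT ⟨s, hs⟩).lt ((helT ⟨s, hs⟩).lt hi)),
              ← (helT ⟨s, hs⟩).mul_apply (helT ⟨s, hs⟩) hi, Golay.pt_idx]
          rw [this]
          exact mul_mem haQ (Subgroup.subset_closure ⟨_, helS _, rfl⟩)
      exact key C.ksteps [0] (fun r hr => by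
        obtain rfl := List.mem_singleton.mp hr
        exact ⟨hn, hone ▸ one_mem Q⟩) hks
    have hlabel : ∀ m m' : Fin C.n, L m = L m' ↔ (el m)⁻¹ * el m' ∈ Q := by
      intro m m'
      obtain ⟨q, hq⟩ := hmem _ (mul_mem (inv_mem (helS m)) (helS m'))
      have h1 := hadd q m m' (by rw [hq, mul_inv_cancel_left])
      constructor
      · intro h
        rw [← hq]
        refine hlQ q ?_
        rw [h] at h1
        have h2 : L m' ^^^ L m' = L m' ^^^ (L m' ^^^ L q) := congrArg (L m' ^^^ ·) h1
        rw [Nat.xor_self, ← Nat.xor_assoc, Nat.xor_self, Nat.zero_xor] at h2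
        exact h2.symm
      · intro h
        rw [h1, hQl q (hq ▸ h), Nat.xor_zero]
    -- conjugation by `g`
    have hgS : ∀ a, a ∈ S ↔ g * a * g⁻¹ ∈ S := Subgroup.mem_normalizer_iff.mp hg
    choose π hπ using fun m : Fin C.n => hmem _ ((hgS (el m)).mp (helS m))
    have hπb : Function.Bijective π := Finite.injective_iff_bijective.mp fun a b h => hinj (by
      have := (hπ a).symm.trans ((congrArg el h).trans (hπ b))
      simpa using this)
    let πe := Equiv.ofBijective π hπb
    have hQconj : ∀ a, a ∈ Q ↔ g * a * g⁻¹ ∈ Q := by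
      have key : ∀ c : ↥H, c ∈ Subgroup.normalizer (S : Set ↥H) → ∀ a ∈ Q, c * a * c⁻¹ ∈ Q := by
        intro c hc a ha
        induction ha using Subgroup.closure_induction with
        | mem y hy =>
          obtain ⟨b, hb, rfl⟩ := hy
          exact Subgroup.subset_closure ⟨_, (Subgroup.mem_normalizer_iff.mp hc b).mp hb, by group⟩
        | one => simp
        | mul a b _ _ iha ihb =>
          have := mul_mem iha ihb
          convert this using 1
          group
        | inv a _ iha =>
          have := inv_mem iha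
          convert this using 1
          group
      exact fun a => ⟨key g hg a, fun h => by simpa [mul_assoc] using key g⁻¹ (inv_mem hg) _ h⟩
    have hπl : ∀ m m' : Fin C.n, L (π m) = L (π m') ↔ L m = L m' := by
      intro m m'
      rw [hlabel, hlabel, hπ, hπ, hQconj ((el m)⁻¹ * el m')]
      exact Iff.of_eq (congrArg (· ∈ Q) (by group))
    simp only [checkInvariant, Bool.and_eq_true, List.all_eq_true, List.mem_range, beq_iff_eq,
      Bool.or_eq_true, bne_iff_ne] at hI
    obtain ⟨⟨⟨hcnt, hcls⟩, hD⟩, hsep⟩ := hI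
    -- the induced permutation of the points
    let γ : Equiv.Perm (Fin 24) :=
      { toFun := fun i => ⟨Golay.idx ((g : Equiv.Perm GolayPt) (Golay.pt i)), Golay.idx_lt _⟩
        invFun := fun i => ⟨Golay.idx ((g : Equiv.Perm GolayPt).symm (Golay.pt i)), Golay.idx_lt _⟩
        left_inv := fun i => Fin.ext (by simp [Golay.pt_idx, Golay.idx_pt i.2])
        right_inv := fun i => Fin.ext (by simp [Golay.pt_idx, Golay.idx_pt i.2]) }
    have hdig : ∀ (m : Fin C.n) (i : Fin 24),
        ∃ h : dig (C.e m) i < 24, dig (C.e (π m)) (γ i) = γ ⟨dig (C.e m) i, h⟩ := by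
      intro m i
      refine ⟨(helT m).lt i.2, ?_⟩
      rw [← helT (π m) _ (γ i).2, hπ m]
      show Golay.idx (((g : Equiv.Perm GolayPt) * (el m : Equiv.Perm GolayPt) *
        (g : Equiv.Perm GolayPt)⁻¹) (Golay.pt (Golay.idx ((g : Equiv.Perm GolayPt) (Golay.pt i))))) =
        Golay.idx ((g : Equiv.Perm GolayPt) (Golay.pt (dig (C.e m) i)))
      rw [Golay.pt_idx, ← helT m i i.2, Golay.pt_idx]
      simp [Equiv.Perm.mul_apply, Equiv.Perm.coe_inv]
    have hclsγ : ∀ i : Fin 24, C.cls.getD (γ i) 0 = C.cls.getD i 0 := by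
      intro i
      refine (hcls _ (γ i).2 _ i.2).resolve_left ?_
      rw [not_not, hcnt _ (γ i).2, hcnt _ i.2, sum_range_map, sum_range_map]
      rw [← Equiv.sum_comp πe]
      refine Finset.sum_congr rfl fun m _ => ?_
      obtain ⟨h, he⟩ := hdig m i
      show (if dig (C.e (π m)) (γ i) = γ i then 1 else 0) = _
      simp only [he, Fin.val_inj, γ.injective.eq_iff, Fin.ext_iff]
    have hsig : ∀ m : Fin C.n, sig C (C.e (π m)) = sig C (C.e m) := by
      intro m
      simp only [sig, sum_range_map]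
      rw [← Equiv.sum_comp γ]
      refine Finset.sum_congr rfl fun i _ => ?_
      obtain ⟨h1, e1⟩ := hdig m i
      obtain ⟨h2, e2⟩ := hdig m ⟨_, h1⟩
      obtain ⟨h3, e3⟩ := hdig m ⟨_, h2⟩
      obtain ⟨h4, e4⟩ := hdig m ⟨_, h3⟩
      simp only [e1, e2, e3, e4, hclsγ, Fin.val_inj, γ.injective.eq_iff, Fin.ext_iff]
    have hDinv : ∀ m : Fin C.n, C.D.getD (L (π m)) 0 = C.D.getD (L m) 0 := by
      intro m
      rw [hD _ (hlab _ (π m).2).1, hD _ (hlab _ m.2).1]
      simp only [dsum, sum_range_map]
      rw [← Equiv.sum_comp πe]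
      refine Finset.sum_congr rfl fun m' _ => ?_
      show (if L (π m') = L (π m) then hsh (sig C (C.e (π m'))) else 0) = _
      simp only [hπl, hsig]
      rfl
    have h2 : ∀ m : Fin C.n, L (π (π m)) = L m := by
      intro m
      have d1 := hDinv m
      have d2 := (hDinv (π m)).trans d1
      rcases ((hsep _ (hlab _ m.2).1 _ (hlab _ (π m).2).1).resolve_left (fun h => h d1.symm) _
        (hlab _ (π (π m)).2).1).resolve_left (fun h => h d2.symm) with (h | h) | h
      · exact ((hπl _ _).mpr h.symm).trans h.symm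
      · exact h.symm
      · exact h.symm.trans (((hπl m (π m)).mp h).symm)
    -- conclude
    have hgg2 : ∀ a ∈ S, g * g * a * (g * g)⁻¹ * a⁻¹ ∈ (frattini S).map S.subtype := by
      intro a ha
      obtain ⟨m, rfl⟩ := hmem a ha
      apply hQle
      have e : g * g * el m * (g * g)⁻¹ = el (π (π m)) := by rw [hπ, hπ]; group
      rw [e]
      have h3 := (hlabel _ _).mp (h2 m).symm
      -- `(el m)⁻¹ * el (π (π m)) ∈ Q`
      have hconj : el m * ((el m)⁻¹ * el (π (π m))) * (el m)⁻¹ ∈ Q := by
        have key : ∀ c ∈ S, ∀ b ∈ Q, c * b * c⁻¹ ∈ Q := by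
          intro c hc b hb
          induction hb using Subgroup.closure_induction with
          | mem y hy =>
            obtain ⟨d, hd, rfl⟩ := hy
            exact Subgroup.subset_closure ⟨_, mul_mem (mul_mem hc hd) (inv_mem hc), by group⟩
          | one => simp
          | mul a b _ _ iha ihb =>
            have := mul_mem iha ihb
            convert this using 1
            group
          | inv a _ iha =>
            have := inv_mem iha
            convert this using 1
            group
        exact key _ (helS m) _ h3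
      simpa [mul_assoc] using hconj
    have hn2 : g * g ∈ Subgroup.normalizer (S : Set ↥H) := mul_mem hg hg
    set A := Subgroup.zpowers (g * g)
    have hgA : g ∈ A := by
      obtain ⟨j, hj⟩ := hodd
      refine ⟨((j + 1 : ℕ) : ℤ), ?_⟩
      simp only [zpow_natCast]
      rw [← pow_two, ← pow_mul, show 2 * (j + 1) = orderOf g + 1 by omega, pow_succ,
        pow_orderOf_eq_one, one_mul]
    have hcent : A ≤ Subgroup.centralizer (S : Set ↥H) := by
      refine Coprime.le_centralizer_of_frattini A S (Subgroup.zpowers_le.mpr hn2) ?_ ?_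
      · rw [Nat.card_zpowers]
        obtain ⟨b, hb⟩ := IsPGroup.iff_card.mp (hSp.to_subgroup (frattini ↥S))
        rw [hb]
        refine Nat.Coprime.pow_right _ (Nat.coprime_two_right.mpr ?_)
        have : orderOf (g * g) ∣ orderOf g := by rw [← pow_two]; exact orderOf_pow_dvd 2
        exact hodd.of_dvd_nat this
      · intro a ha
        rw [← mem_powers_iff_mem_zpowers] at ha
        obtain ⟨i, rfl⟩ := ha
        simp only
        induction i with
        | zero => intro k _; simp
        | succ i ih =>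
          intro k hk
          have hk' : (g * g) ^ i * k * ((g * g) ^ i)⁻¹ ∈ S :=
            (Subgroup.mem_normalizer_iff.mp (pow_mem hn2 i) k).mp hk
          have := mul_mem (hgg2 _ hk') (ih k hk)
          convert this using 1
          rw [pow_succ']; generalize g * g = b
          group
    exact (Subgroup.mem_centralizer_iff.mp (hcent hgA) x hx).symm

theorem of_cert (hok : ∀ a, okTab a = true → ∃ σ : ↥H, TabN (σ : Equiv.Perm GolayPt) a)
    (hc : check okTab C = true) (hpart : ¬ 2 * C.n ∣ Nat.card ↥H) (hn1 : 1 < C.n) (S : Sylow 2 ↥H) :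
    (S : Subgroup ↥H) ≠ ⊥ ∧ NoClosed (S : Subgroup ↥H) ∧
      ∀ g ∈ Subgroup.normalizer ((S : Subgroup ↥H) : Set ↥H),
        ∃ s ∈ (S : Subgroup ↥H), ∀ x ∈ (S : Subgroup ↥H), g * x * g⁻¹ = s * x * s⁻¹ := by
  have : Fact (Nat.Prime 2) := ⟨Nat.prime_two⟩
  obtain ⟨S₀, hd⟩ := exists_sylow2Data H okTab C hok hc
  simp only [check, checkGroup, Bool.and_eq_true, decide_eq_true_eq] at hc
  have hn2 : C.n = 2 ^ C.e2 := by tauto
  have hp : IsPGroup 2 S₀ := IsPGroup.of_card (hd.card.trans hn2)
  obtain ⟨R, hR⟩ := hp.exists_le_sylow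
  have hRS : S₀ = (R : Subgroup ↥H) := by
    refine Subgroup.eq_of_le_of_card_ge hR ?_
    obtain ⟨b, hb⟩ := IsPGroup.iff_card.mp R.isPGroup'
    rw [hd.card, hb, hn2]
    refine Nat.pow_le_pow_right two_pos ?_
    by_contra hlt
    refine hpart (dvd_trans ?_ (Subgroup.card_subgroup_dvd_card (R : Subgroup ↥H)))
    rw [hb, hn2, ← pow_succ']
    exact pow_dvd_pow 2 (by omega)
  obtain ⟨c, hc'⟩ := MulAction.exists_smul_eq ↥H R S
  have hS : (S : Subgroup ↥H) = S₀.map (MulAut.conj c).toMonoidHom := by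
    rw [hRS, ← hc', Sylow.coe_subgroup_smul]
    rfl
  have ho : OddNormCentral (S : Subgroup ↥H) := hS ▸ hd.oddNorm.smul c
  refine ⟨?_, hS ▸ hd.noClosed.smul c, fun g hg => exists_inner_of_oddNormCentral rfl S ho hg⟩
  intro hb
  have h1 : Nat.card S₀ = Nat.card (S : Subgroup ↥H) := by
    rw [hS]
    exact Nat.card_congr (Subgroup.equivMapOfInjective _ _ (MulAut.conj c).injective).toEquiv
  rw [hb, Subgroup.card_bot, hd.card] at h1
  omega

end Cfsg.Agent.Fusion91.Mathieu
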