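import Cfsg.Agent.Fusion91.Mathieu.OkTab
import Cfsg.Agent.Fusion91.Mathieu.Sound
import Cfsg.Prelude.Def_Spor_Mathieu

set_option autoImplicit false

/-! The membership tests are sound. -/

namespace Cfsg.Agent.Fusion91.Mathieu

open Cfsg Cfsg.Agent
open scoped Pointwise

theorem exists_of_ok24 {a : ℕ} (h : ok24 a = true) :
    ∃ σ : Equiv.Perm GolayPt, σ ∈ Cfsg.M24 ∧ TabN σ a := by
  simp only [ok24, Bool.and_eq_true] at h
  exact ⟨_, (Golay.tab_permOf h.1).mem_M24 h.2, tabN_of_tab (Golay.tab_permOf h.1)⟩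

theorem apply_eq {σ : Equiv.Perm GolayPt} {a i : ℕ} (hσ : TabN σ a) (h : dig a i = i)
    (p : GolayPt) (hp : Golay.idx p = i) : σ p = p := by
  rw [hσ.apply, hp, h, ← hp, Golay.pt_idx]

theorem toSet_sqMask : Golay.toSet sqMask = Cfsg.Spor.squareDodecad := by decide +kernel

theorem idx_none : Golay.idx (none : GolayPt) = 23 := by decide +kernel

theorem idx_zero : Golay.idx (some 0 : GolayPt) = 0 := by decide +kernel

theorem sound24 (a : ℕ) (h : ok24 a = true) :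
    ∃ σ : ↥Cfsg.M24, TabN (σ : Equiv.Perm GolayPt) a :=
  let ⟨σ, hm, ht⟩ := exists_of_ok24 h
  ⟨⟨σ, hm⟩, ht⟩

theorem exists_of_ok23 {a : ℕ} (h : ok23 a = true) :
    ∃ σ : Equiv.Perm GolayPt, σ ∈ Cfsg.Spor.M23 ∧ TabN σ a := by
  simp only [ok23, Bool.and_eq_true, beq_iff_eq] at h
  obtain ⟨σ, hm, ht⟩ := exists_of_ok24 h.1
  exact ⟨σ, ⟨hm, apply_eq ht h.2 _ idx_none⟩, ht⟩

theorem sound23 (a : ℕ) (h : ok23 a = true) :
    ∃ σ : ↥Cfsg.Spor.M23, TabN (σ : Equiv.Perm GolayPt) a :=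
  let ⟨σ, hm, ht⟩ := exists_of_ok23 h
  ⟨⟨σ, hm⟩, ht⟩

theorem sound22 (a : ℕ) (h : ok22 a = true) :
    ∃ σ : ↥Cfsg.Spor.M22, TabN (σ : Equiv.Perm GolayPt) a := by
  simp only [ok22, Bool.and_eq_true, beq_iff_eq] at h
  obtain ⟨σ, hm, ht⟩ := exists_of_ok23 h.1
  exact ⟨⟨σ, hm, apply_eq ht h.2 _ idx_zero⟩, ht⟩

theorem exists_of_ok12 {a : ℕ} (h : ok12 a = true) :
    ∃ σ : Equiv.Perm GolayPt, σ ∈ Cfsg.Spor.M12 ∧ TabN σ a := by
  simp only [ok12, Bool.and_eq_true] at h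
  obtain ⟨σ, hm, ht⟩ := exists_of_ok24 h.1
  have htab : Golay.Tab σ (dec a) := fun i hi => (ht i hi).trans (Golay.getD_map_range _ hi).symm
  refine ⟨σ, ⟨hm, ?_⟩, ht⟩
  exact MulAction.mem_stabilizer_iff.mpr (by rw [← toSet_sqMask]; exact htab.smul_toSet h.2)

theorem sound12 (a : ℕ) (h : ok12 a = true) :
    ∃ σ : ↥Cfsg.Spor.M12, TabN (σ : Equiv.Perm GolayPt) a :=
  let ⟨σ, hm, ht⟩ := exists_of_ok12 h
  ⟨⟨σ, hm⟩, ht⟩

theorem sound11 (a : ℕ) (h : ok11 a = true) :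
    ∃ σ : ↥Cfsg.Spor.M11, TabN (σ : Equiv.Perm GolayPt) a := by
  simp only [ok11, Bool.and_eq_true, beq_iff_eq] at h
  obtain ⟨σ, hm, ht⟩ := exists_of_ok12 h.1
  exact ⟨⟨σ, hm, apply_eq ht h.2 _ idx_zero⟩, ht⟩

end Cfsg.Agent.Fusion91.Mathieu
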