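import Cfsg.Agent.Lib.Golay.Perm

set_option autoImplicit false

/-! Kernel-checkable certificates for a Sylow 2-subgroup of a group of permutations of the 24 points. -/

namespace Cfsg.Agent.Fusion91.Mathieu

open Cfsg Cfsg.Agent

/-- The `i`-th entry of an encoded table. -/
def dig (a i : ℕ) : ℕ := a / 32 ^ i % 32

/-- The table encoded by `a`. -/
def dec (a : ℕ) : List ℕ := (List.range 24).map (dig a)

/-- Lookup in a chunked list. -/
def get2 (L : List (List ℕ)) (m : ℕ) : ℕ := (L.getD (m / 32) []).getD (m % 32) 0

/-- A certificate. -/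
structure Cert where
  /-- number of generators -/
  k : ℕ
  /-- order of the subgroup -/
  n : ℕ
  /-- exponent of 2 -/
  e2 : ℕ
  /-- rank of the Frattini quotient -/
  d : ℕ
  /-- indices of the generators -/
  gen : List ℕ
  /-- encoded elements -/
  E : List (List ℕ)
  /-- right multiplication by each generator -/
  mulT : List (List (List ℕ))
  /-- parent of an element -/
  parp : List (List ℕ)
  /-- generator joining an element to its parent -/
  parj : List (List ℕ)
  /-- the indices sorted by encoded value -/
  ord : List (List ℕ)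
  /-- index of the central involution -/
  z : ℕ
  /-- a generator not commuting with the element -/
  cwit : List (List ℕ)
  /-- fusion steps -/
  steps : List (ℕ × ℕ × ℕ × ℕ)
  /-- coset label modulo the subgroup generated by squares -/
  lab : List (List ℕ)
  /-- products of squares -/
  ksteps : List (ℕ × ℕ × ℕ)
  /-- class of a point -/
  cls : List ℕ
  /-- number of elements fixing a point -/
  cnt : List ℕ
  /-- invariant of a coset -/
  D : List ℕ

variable (okTab : ℕ → Bool) (C : Cert)

/-- The `m`-th element. -/
def Cert.e (m : ℕ) : ℕ := get2 C.E m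

/-- Index of the product of the `m`-th element and the `j`-th generator. -/
def Cert.mul (m j : ℕ) : ℕ := get2 (C.mulT.getD j []) m

/-- The `j`-th generator index. -/
def Cert.g (j : ℕ) : ℕ := C.gen.getD j 0

/-- The label of the `m`-th element. -/
def Cert.l (m : ℕ) : ℕ := get2 C.lab m

/-- `c` is the composite of `a` and `b`. -/
def isComp (a b c : ℕ) : Bool :=
  (List.range 24).all fun i => dig c i == dig a (dig b i)

/-- `a` and `b` do not commute. -/
def noComm (a b : ℕ) : Bool :=
  !(List.range 24).all fun i => dig a (dig b i) == dig b (dig a i)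

def checkGroup : Bool :=
  decide (0 < C.n) && decide (0 < C.k) && decide (C.n = 2 ^ C.e2) &&
  ((List.range 24).all fun i => dig (C.e 0) i == i) &&
  ((List.range C.k).all fun j => decide (C.g j < C.n) && okTab (C.e (C.g j))) &&
  ((List.range C.n).all fun m =>
    decide (C.e m < 32 ^ 24) &&
    ((List.range C.k).all fun j =>
      decide (C.mul m j < C.n) && isComp (C.e m) (C.e (C.g j)) (C.e (C.mul m j)))) &&
  ((List.range C.n).all fun m => decide (m = 0) ||
    (decide (get2 C.parp m < m) && decide (get2 C.parj m < C.k) &&
      decide (C.mul (get2 C.parp m) (get2 C.parj m) = m))) &&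
  ((List.range C.n).all fun i => decide (get2 C.ord i < C.n) &&
    (decide (C.n ≤ i + 1) || decide (C.e (get2 C.ord i) < C.e (get2 C.ord (i + 1)))))

def checkCenter : Bool :=
  decide (C.z < C.n) && decide (C.z ≠ 0) &&
  ((List.range C.n).all fun m => decide (m = 0) || decide (m = C.z) ||
    (decide (get2 C.cwit m < C.k) && noComm (C.e m) (C.e (C.g (get2 C.cwit m)))))

def runSteps : List (ℕ × ℕ × ℕ × ℕ) → List ℕ → Bool
  | [], R => (List.range C.k).all fun j => R.contains (C.g j)
  | (g, w, u, r) :: t, R =>
    (R.contains w && decide (r < C.n) &&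
      if g = 0 then R.contains u && isComp (C.e w) (C.e u) (C.e r)
      else okTab g && ((List.range 24).all fun i => dig g (dig (C.e w) i) == dig (C.e r) (dig g i))) &&
    runSteps t (r :: R)

def runSquares : List (ℕ × ℕ × ℕ) → List ℕ → Bool
  | [], R => (List.range C.n).all fun m => C.l m != 0 || R.contains m
  | (a, s, r) :: t, R =>
    (R.contains a && decide (s < C.n) && decide (r < C.n) &&
      ((List.range 24).all fun i => dig (C.e r) i == dig (C.e a) (dig (C.e s) (dig (C.e s) i)))) &&
    runSquares t (r :: R)

def checkLabels : Bool :=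
  decide (C.l 0 = 0) &&
  ((List.range C.n).all fun m => decide (C.l m < 2 ^ C.d) &&
    ((List.range C.k).all fun j => C.l (C.mul m j) == C.l m ^^^ C.l (C.g j))) &&
  runSquares C C.ksteps [0]

/-- Invariant of a permutation. -/
def sig (a : ℕ) : ℕ :=
  ((List.range 24).map fun i => 64 ^ (C.cls.getD i 0 * 8 + (if dig a i = i then 4 else 0) +
    (if dig a (dig a i) = i then 2 else 0) +
    (if dig a (dig a (dig a (dig a i))) = i then 1 else 0))).sum

/-- Hash. -/
def hsh (s : ℕ) : ℕ := s * s % 1000003

/-- Invariant of a coset. -/
def dsum (v : ℕ) : ℕ :=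
  ((List.range C.n).map fun m => if C.l m = v then hsh (sig C (C.e m)) else 0).sum

def checkInvariant : Bool :=
  ((List.range 24).all fun i =>
    C.cnt.getD i 0 == ((List.range C.n).map fun m => if dig (C.e m) i = i then 1 else 0).sum) &&
  ((List.range 24).all fun i => (List.range 24).all fun j =>
    C.cnt.getD i 0 != C.cnt.getD j 0 || C.cls.getD i 0 == C.cls.getD j 0) &&
  ((List.range (2 ^ C.d)).all fun v => C.D.getD v 0 == dsum C v) &&
  ((List.range (2 ^ C.d)).all fun u => (List.range (2 ^ C.d)).all fun v =>
    C.D.getD u 0 != C.D.getD v 0 || (List.range (2 ^ C.d)).all fun w =>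
      C.D.getD u 0 != C.D.getD w 0 || (u == v || u == w || v == w))

def check : Bool :=
  checkGroup okTab C && checkCenter C && runSteps okTab C C.steps [C.z] && checkLabels C &&
    checkInvariant C

end Cfsg.Agent.Fusion91.Mathieu
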