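import Cfsg.Agent.Fusion91.Mathieu.Check

set_option autoImplicit false

/-! Membership tests for the five Mathieu groups. -/

namespace Cfsg.Agent.Fusion91.Mathieu

open Cfsg Cfsg.Agent

/-- Membership test for `M24`. -/
def ok24 (a : ℕ) : Bool := Golay.isPermTab (dec a) && Golay.checkAut (dec a)

/-- Membership test for `M23`. -/
def ok23 (a : ℕ) : Bool := ok24 a && dig a 23 == 23

/-- Membership test for `M22`. -/
def ok22 (a : ℕ) : Bool := ok23 a && dig a 0 == 0

/-- The mask of the squares. -/
def sqMask : ℕ := 340831

/-- Membership test for `M12`. -/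
def ok12 (a : ℕ) : Bool := ok24 a && Golay.maps (dec a) sqMask sqMask

/-- Membership test for `M11`. -/
def ok11 (a : ℕ) : Bool := ok12 a && dig a 0 == 0

end Cfsg.Agent.Fusion91.Mathieu
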