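import Cfsg.Agent.Fusion91.Mathieu.DataM22
import Cfsg.Agent.Fusion91.Mathieu.OkTab

set_option autoImplicit false

/-! Kernel check of the certificate for M22. -/

namespace Cfsg.Agent.Fusion91.Mathieu

theorem checkM22 : check ok22 certM22 = true := by decide +kernel

end Cfsg.Agent.Fusion91.Mathieu
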