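import Cfsg.Agent.Fusion91.Mathieu.Check

set_option autoImplicit false
set_option maxRecDepth 16000

/-! Certificate data for a Sylow 2-subgroup of M11. -/

namespace Cfsg.Agent.Fusion91.Mathieu

/-- Elements. -/
def eM11 : List (List ℕ) :=
[[984818244535754528103549039458486304,444738317977551238577238853718058016,233275138630126546660786208439996480,609714116171738490039089542052557088,316270824545803404142366750717097024,483683079698722280194364352775693440,734248186346645072629285283843749152,483764132979692398727233352118765952,984737182502729783464923423941280160,649917612538666832727342486851373184,444819351316424441011164844367399328,649836570447739004187659892912406912,734329250191779265060329958081139200,233194089500230198874011785118189120,316351878980681115856791350840341056,609633076452098622968935179960387072]]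

/-- Products with the generators. -/
def mulM11 : List (List (List ℕ)) :=
[[[1,0,4,6,2,9,3,11,10,5,8,7,15,14,13,12]],
[[2,3,5,7,8,6,10,4,12,13,14,15,9,1,11,0]]]

/-- Certificate. -/
def certM11 : Cert where
  k := 2
  n := 16
  e2 := 4
  d := 2
  gen := [1,2]
  E := eM11
  mulT := mulM11
  parp := [[0,0,0,1,2,2,3,3,4,5,6,7,8,9,10,11]]
  parj := [[0,0,1,1,0,1,0,1,1,0,1,0,1,1,1,1]]
  ord := [[13,2,4,14,1,10,5,7,15,3,11,9,6,12,8,0]]
  z := 10
  cwit := [[0,1,0,0,0,0,0,0,1,0,0,0,0,0,0,0]]
  steps := [(466867599687587423368019884883056768,10,0,9),(0,9,10,7),(612311150663163791780169309240953120,10,0,8),(0,10,8,1),(0,9,1,5),(734330466351947022443742560843483424,5,0,4),(0,7,4,2)]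
  lab := [[0,1,2,3,3,0,2,1,1,1,0,0,3,3,2,2]]
  ksteps := [(0,2,5),(0,3,10),(0,6,11)]
  cls := [3,0,0,2,0,0,2,0,3,0,0,0,0,0,0,0,0,0,0,1,1,1,1,0]
  cnt := [16,2,2,8,2,2,8,2,16,2,2,2,2,2,2,2,2,2,2,4,4,4,4,2]
  D := [1320917,342196,322128,1394500]

end Cfsg.Agent.Fusion91.Mathieu
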